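import Groth.Agent.ChowGen.Product
import Mathlib.AlgebraicGeometry.Morphisms.ClosedImmersion

/-!
# Affine schemes of finite type embed into projective space
-/

universe u

open CategoryTheory CategoryTheory.Limits AlgebraicGeometry MvPolynomial HomogeneousLocalization

set_option backward.isDefEq.respectTransparency false
set_option backward.isDefEq.respectTransparency.types false
set_option linter.style.haveILetI false

noncomputable section

namespace Groth.Agent.ChowGen

theorem exists_immersion_affine {X S : Scheme.{u}} (f : X ⟶ S) [LocallyOfFiniteType f] {V : X.Opens}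
    (hV : IsAffineOpen V) {A : S.Opens} (hA : IsAffineOpen A) (hVA : V ≤ f ⁻¹ᵁ A) :
    ∃ (n : ℕ) (j : V.toScheme ⟶ CohB1.ProjSpaceOver n S),
      IsImmersion j ∧ j ≫ CohB1.ProjSpaceOver.toBase n S = V.ι ≫ f := by
  classical
  haveI : IsAffine V.toScheme := hV
  haveI : IsAffine A.toScheme := hA
  let g : V.toScheme ⟶ A.toScheme := f.resLE A V hVA
  haveI : LocallyOfFiniteType g := inferInstanceAs (LocallyOfFiniteType (f.resLE A V hVA))
  have hft : g.appTop.hom.FiniteType := (HasRingHomProperty.iff_of_isAffine (P := @LocallyOfFiniteType)).1 ‹_›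
  algebraize [g.appTop.hom]
  obtain ⟨k, φ, hφ⟩ := Algebra.FiniteType.iff_quotient_mvPolynomial''.1 ‹Algebra.FiniteType Γ(A.toScheme, ⊤) Γ(V.toScheme, ⊤)›
  let s : Fin (k + 1) → Γ(V.toScheme, ⊤) := Fin.cons 1 (fun a => φ (MvPolynomial.X a))
  have hs0 : IsUnit (s 0) := by simp [s]
  let 𝒜 := CohB1.polyGrading k (ULift.{u} ℤ)
  let R₀ := CommRingCat.of (Away 𝒜 (MvPolynomial.X (0 : Fin (k + 1))))
  let iota : Spec R₀ ⟶ CohB1.ProjSpace k (ULift.{u} ℤ) := Proj.awayι 𝒜 _ (ProjPt.X_mem 0) one_pos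
  haveI : IsOpenImmersion iota := inferInstanceAs (IsOpenImmersion (Proj.awayι _ _ _ _))
  let c : Spec R₀ ⟶ Spec (CommRingCat.of (ULift.{u} ℤ)) := iota ≫ CohB1.ProjSpace.toSpec k _
  have hu0 : IsUnit ((eval₂Hom (SegreX.z0 _) s) (MvPolynomial.X (0 : Fin (k + 1)))) := by
    rw [eval₂Hom_X']; exact hs0
  let θ : R₀ ⟶ Γ(V.toScheme, ⊤) := CommRingCat.ofHom (ProjPt.coordHom 𝒜 (eval₂Hom (SegreX.z0 _) s) hu0)
  let a : V.toScheme ⟶ Spec R₀ := V.toScheme.toSpecΓ ≫ Spec.map θ
  let T := pullback c (specULiftZIsTerminal.from A.toScheme)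
  let σ : V.toScheme ⟶ T := pullback.lift a g (specULiftZIsTerminal.hom_ext _ _)
  haveI : IsAffine T := inferInstanceAs (IsAffine (pullback _ _))
  haveI : IsClosedImmersion σ := by
    refine IsClosedImmersion.of_surjective_of_isAffine σ fun y => ?_
    obtain ⟨P, rfl⟩ := hφ y
    induction P using MvPolynomial.induction_on with
    | C r =>
      refine ⟨(pullback.snd c _).appTop r, ?_⟩
      rw [← CommRingCat.comp_apply, ← Scheme.Hom.comp_appTop, pullback.lift_snd]
      exact (φ.commutes r).symm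
    | add P Q hP hQ =>
      obtain ⟨x, hx⟩ := hP
      obtain ⟨x', hx'⟩ := hQ
      exact ⟨x + x', by rw [map_add, map_add, hx, hx']⟩
    | mul_X P l hP =>
      obtain ⟨x, hx⟩ := hP
      refine ⟨x * (pullback.fst c (specULiftZIsTerminal.from A.toScheme)).appTop
        ((Scheme.ΓSpecIso R₀).inv (ProjPt.crd 0 l.succ)), ?_⟩
      rw [map_mul, map_mul, hx, ← CommRingCat.comp_apply _ σ.appTop, ← Scheme.Hom.comp_appTop, pullback.lift_fst]
      congr 1
      have : a.appTop = (Scheme.ΓSpecIso R₀).hom ≫ θ := by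
        simp only [a, Scheme.Hom.comp_appTop, Scheme.toSpecΓ_appTop, Scheme.ΓSpecIso_naturality]
      rw [this, CommRingCat.comp_apply, Iso.inv_hom_id_apply]
      show ProjPt.coordHom 𝒜 _ hu0 (ProjPt.crd 0 l.succ) = _
      rw [ProjPt.crd, ProjPt.coordHom_mk_eq_iff, eval₂Hom_X', eval₂Hom_X']
      simp [s]
  let m : T ⟶ CohB1.ProjSpaceOver k S :=
    pullback.map c _ (CohB1.ProjSpace.toSpec k (ULift.{u} ℤ)) (specULiftZIsTerminal.from S) iota A.ι (𝟙 _)
      (by simp [c]) (specULiftZIsTerminal.hom_ext _ _)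
  haveI : IsOpenImmersion m := inferInstanceAs (IsOpenImmersion (pullback.map _ _ _ _ _ _ _ _ _))
  refine ⟨k, σ ≫ m, inferInstance, ?_⟩
  show (σ ≫ m) ≫ pullback.snd _ _ = _
  rw [Category.assoc, pullback.lift_snd, pullback.lift_snd_assoc]
  exact f.resLE_comp_ι hVA

end Groth.Agent.ChowGen
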