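import Groth.Agent.ChowGen.Sum
import Groth.Agent.ChowGen.Chart

/-!
# Chow's lemma over a quasi-compact quasi-separated base
-/

universe u

open CategoryTheory CategoryTheory.Limits AlgebraicGeometry TopologicalSpace

set_option backward.isDefEq.respectTransparency false
set_option backward.isDefEq.respectTransparency.types false
set_option linter.style.haveILetI false

noncomputable section

namespace Groth.Agent.ChowGen

variable {X S : Scheme.{u}} (f : X ⟶ S)

/-- A finite covering by affine opens embedded into projective spaces over the base. -/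
structure Charts where
  ι : Type u
  fin : Finite ι
  V : ι → X.Opens
  affine : ∀ i, IsAffineOpen (V i)
  cover : ∀ x : X, ∃ i, x ∈ V i
  n : ι → ℕ
  j : ∀ i, (V i).toScheme ⟶ CohB1.ProjSpaceOver (n i) S
  hj : ∀ i, IsImmersion (j i)
  hjf : ∀ i, j i ≫ CohB1.ProjSpaceOver.toBase (n i) S = (V i).ι ≫ f

theorem exists_charts [CompactSpace X] [LocallyOfFiniteType f] : Nonempty (Charts f) := by
  have h : ∀ x : X, ∃ V : X.Opens, IsAffineOpen V ∧ x ∈ V ∧ ∃ A : S.Opens, IsAffineOpen A ∧ V ≤ f ⁻¹ᵁ A := by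
    intro x
    obtain ⟨_, ⟨A, hA, rfl⟩, hxA, -⟩ := S.isBasis_affineOpens.exists_subset_of_mem_open (Set.mem_univ (f x)) isOpen_univ
    obtain ⟨_, ⟨V, hV, rfl⟩, hxV, hVA⟩ := X.isBasis_affineOpens.exists_subset_of_mem_open
      (show x ∈ ((f ⁻¹ᵁ A : X.Opens) : Set X) from hxA) (f ⁻¹ᵁ A).2
    exact ⟨V, hV, hxV, A, hA, hVA⟩
  choose V hV hxV A hA hVA using h
  obtain ⟨T, hT⟩ := isCompact_univ.elim_finite_subcover (fun x : X => (V x : Set X))
    (fun x => (V x).2) (fun x _ => Set.mem_iUnion.2 ⟨x, hxV x⟩)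
  choose n j hj hjf using fun x => exists_immersion_affine f (hV x) (hA x) (hVA x)
  refine ⟨{
    ι := T
    fin := inferInstance
    V := fun x => V x
    affine := fun x => hV x
    cover := fun x => ?_
    n := fun x => n x
    j := fun x => j x
    hj := fun x => hj x
    hjf := fun x => hjf x }⟩
  obtain ⟨t, ht, hxt⟩ := Set.mem_iUnion₂.1 (hT (Set.mem_univ x))
  exact ⟨⟨t, ht⟩, hxt⟩

variable [IsSeparated f]

/-- Chow's lemma: a quasi-projective scheme with a proper surjection onto `X`. -/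
theorem exists_chow [CompactSpace S] [QuasiSeparatedSpace S] [LocallyOfFiniteType f] [QuasiCompact f] :
    ∃ (n : ℕ) (X' : Scheme.{u}) (π : X' ⟶ X) (j : X' ⟶ CohB1.ProjSpaceOver n S),
      IsImmersion j ∧ j ≫ CohB1.ProjSpaceOver.toBase n S = π ≫ f ∧ IsProper π ∧ Surjective π := by
  classical
  haveI : CompactSpace X := QuasiCompact.compactSpace_of_compactSpace f
  haveI : QuasiSeparatedSpace X := quasiSeparatedSpace_of_quasiSeparated f
  obtain ⟨C⟩ := exists_charts f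
  haveI := C.fin
  -- the strata
  let κ := {T : Set C.ι // T.Nonempty}
  let Z : κ → Closeds X := fun T => ⟨(⋃ l : {l : C.ι // l ∉ T.1}, (C.V l.1 : Set X))ᶜ,
    (isOpen_iUnion fun l : {l : C.ι // l ∉ T.1} => (C.V l.1).2).isClosed_compl⟩
  let Xs : κ → Scheme.{u} := fun T => (Scheme.IdealSheafData.vanishingIdeal (Z T)).subscheme
  let z : ∀ T, Xs T ⟶ X := fun T => (Scheme.IdealSheafData.vanishingIdeal (Z T)).subschemeι
  have hz : ∀ T, Set.range (z T) = (Z T : Set X) := fun T => by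
    rw [Scheme.IdealSheafData.range_subschemeι, Scheme.IdealSheafData.coe_support_vanishingIdeal]
  have hP : ∀ T : κ, ∃ P : Piece (z T ≫ f) (⨅ i : T.1, z T ⁻¹ᵁ C.V i), True := by
    intro T
    haveI : CompactSpace (Xs T) := QuasiCompact.compactSpace_of_compactSpace (z T)
    haveI : QuasiSeparatedSpace (Xs T) := quasiSeparatedSpace_of_quasiSeparated (z T)
    haveI := C.hj
    refine ⟨(exists_piece (z T ≫ f) _ ?_ (fun i : T.1 => z T ⁻¹ᵁ C.V i) (fun i => iInf_le _ i) ?_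
      (fun i => C.n i) (fun i => (z T ∣_ C.V i) ≫ C.j i) (fun i => inferInstance) (fun i => ?_)).some, trivial⟩
    · rw [Opens.coe_iInf, ← Set.sInter_range]
      refine QuasiSeparatedSpace.isCompact_sInter (Set.finite_range _) ?_ ?_
      · rintro _ ⟨i, rfl⟩; exact Or.inl (z T ⁻¹ᵁ C.V i).2
      · rintro _ ⟨i, rfl⟩; exact (z T).isCompact_preimage (C.affine i).isCompact
    · intro y _
      obtain ⟨i, hi⟩ := C.cover (z T y)
      have hy : z T y ∈ (Z T : Set X) := hz T ▸ ⟨y, rfl⟩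
      have : i ∈ T.1 := by_contra fun h => hy (Set.mem_iUnion.2 ⟨⟨i, h⟩, hi⟩)
      exact Set.mem_iUnion.2 ⟨⟨i, this⟩, hi⟩
    · rw [Category.assoc, C.hjf, morphismRestrict_ι_assoc]
  choose P _ using hP
  haveI := fun T => (P T).π_proper
  obtain ⟨N, q, hq, hqf, hπ⟩ := exists_sum f (fun T => (P T).n) (fun T => (P T).X')
    (fun T => (P T).π ≫ z T) (fun T => inferInstance) (fun T => (P T).p) (fun T => (P T).p_imm)
    (fun T => by rw [(P T).p_comp, Category.assoc])
  refine ⟨N, _, _, q, hq, hqf, hπ, ⟨fun x => ?_⟩⟩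
  let T₀ : Set C.ι := {i | x ∈ C.V i}
  let T : κ := ⟨T₀, C.cover x⟩
  have hxZ : x ∈ (Z T : Set X) := fun h => by
    obtain ⟨⟨l, hl⟩, hxl⟩ := Set.mem_iUnion.1 h
    exact hl hxl
  obtain ⟨y, hyx⟩ := (hz T).ge hxZ
  have hy : y ∈ ((⨅ i : T.1, z T ⁻¹ᵁ C.V i : (Xs T).Opens) : Set (Xs T)) := by
    rw [Opens.coe_iInf]
    refine Set.mem_iInter.2 fun i => ?_
    show z T y ∈ C.V i
    rw [hyx]
    exact i.2
  obtain ⟨w, hw⟩ := (P T).range_π.ge (subset_closure hy)
  refine ⟨Limits.Sigma.ι (fun T => (P T).X') T w, ?_⟩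
  rw [← Scheme.Hom.comp_apply, Sigma.ι_desc, Scheme.Hom.comp_apply, hw, hyx]

/-- Chow's lemma with an isomorphism over a dense open, when there are finitely many irreducible components. -/
theorem exists_chow_dense [CompactSpace S] [QuasiSeparatedSpace S] [LocallyOfFiniteType f] [QuasiCompact f]
    (hirr : (irreducibleComponents X).Finite) :
    ∃ (n : ℕ) (X' : Scheme.{u}) (π : X' ⟶ X) (j : X' ⟶ CohB1.ProjSpaceOver n S),
      IsImmersion j ∧ j ≫ CohB1.ProjSpaceOver.toBase n S = π ≫ f ∧ IsProper π ∧ Surjective π ∧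
      (∃ U : X.Opens, Dense (U : Set X) ∧ Dense ((π ⁻¹ᵁ U : X'.Opens) : Set X') ∧ IsIso (π ∣_ U)) ∧
      (IsReduced X → IsReduced X') := by
  classical
  haveI : CompactSpace X := QuasiCompact.compactSpace_of_compactSpace f
  haveI : QuasiSeparatedSpace X := quasiSeparatedSpace_of_quasiSeparated f
  obtain ⟨C⟩ := exists_charts f
  haveI := C.fin
  let κ := irreducibleComponents X
  haveI : Finite κ := hirr.to_subtype
  let ξ : κ → X := fun Z => Z.2.1.genericPoint
  have hξ : ∀ Z : κ, IsGenericPoint (ξ Z) Z.1 := fun Z =>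
    Z.2.1.isGenericPoint_genericPoint (isClosed_of_mem_irreducibleComponents _ Z.2)
  have hU : ∀ Z : κ, ∃ U : X.Opens, IsAffineOpen U ∧ ξ Z ∈ U ∧ (∀ i, ξ Z ∈ C.V i → U ≤ C.V i) ∧
      ∀ Z' : κ, Z' ≠ Z → Disjoint (U : Set X) Z'.1 := by
    intro Z
    let W : X.Opens := (⨅ i : {i // ξ Z ∈ C.V i}, C.V i.1) ⊓
      ⟨(⋃ Z' : {Z' : κ // Z' ≠ Z}, Z'.1.1)ᶜ, (isClosed_iUnion_of_finite fun Z' =>
        isClosed_of_mem_irreducibleComponents _ Z'.1.2).isOpen_compl⟩
    have hW : ξ Z ∈ W := by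
      refine ⟨?_, fun h => ?_⟩
      · show ξ Z ∈ ((⨅ i : {i // ξ Z ∈ C.V i}, C.V i.1 : X.Opens) : Set X)
        rw [Opens.coe_iInf]
        exact Set.mem_iInter.2 fun i => i.2
      · obtain ⟨⟨Z', hne⟩, hZ'⟩ := Set.mem_iUnion.1 h
        have hsub : Z.1 ⊆ Z'.1 := by
          rw [← (hξ Z).def]
          exact closure_minimal (Set.singleton_subset_iff.2 hZ') (isClosed_of_mem_irreducibleComponents _ Z'.2)
        exact hne (Subtype.ext (Set.Subset.antisymm (Z.2.2 Z'.2.1 hsub) hsub))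
    obtain ⟨_, ⟨U, hU, rfl⟩, hξU, hUW⟩ := X.isBasis_affineOpens.exists_subset_of_mem_open hW W.2
    refine ⟨U, hU, hξU, fun i hi => le_trans (fun x hx => (hUW hx).1) (iInf_le _ (⟨i, hi⟩ : {i // ξ Z ∈ C.V i})),
      fun Z' hne => Set.disjoint_left.2 fun x hx hx' => (hUW hx).2 (Set.mem_iUnion.2 ⟨⟨Z', hne⟩, hx'⟩)⟩
  choose U hUaff hξU hUV hUd using hU
  have hclo : ∀ Z : κ, closure (U Z : Set X) = Z.1 := by
    intro Z
    refine Set.Subset.antisymm (closure_minimal (fun x hx => ?_) (isClosed_of_mem_irreducibleComponents _ Z.2)) ?_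
    · by_contra hne
      exact Set.disjoint_left.1 (hUd Z ⟨irreducibleComponent x, irreducibleComponent_mem_irreducibleComponents x⟩
        (fun h => hne (h ▸ mem_irreducibleComponent))) hx mem_irreducibleComponent
    · rw [← (hξ Z).def]
      exact closure_mono (Set.singleton_subset_iff.2 (hξU Z))
  have hP : ∀ Z : κ, ∃ P : Piece f (U Z), True := by
    intro Z
    refine ⟨(exists_piece f (U Z) (hUaff Z).isCompact (fun i : {i // ξ Z ∈ C.V i} => C.V i.1)
      (fun i => hUV Z i.1 i.2) ?_ (fun i => C.n i.1) (fun i => C.j i.1) (fun i => C.hj i.1)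
      (fun i => C.hjf i.1)).some, trivial⟩
    rw [hclo Z]
    intro x hx
    obtain ⟨i, hi⟩ := C.cover x
    exact Set.mem_iUnion.2 ⟨⟨i, ((hξ Z).mem_open_set_iff (C.V i).2).2 ⟨x, hx, hi⟩⟩, hi⟩
  choose P _ using hP
  obtain ⟨N, q, hq, hqf, hπ⟩ := exists_sum f (fun Z => (P Z).n) (fun Z => (P Z).X')
    (fun Z => (P Z).π) (fun Z => (P Z).π_proper) (fun Z => (P Z).p) (fun Z => (P Z).p_imm)
    (fun Z => (P Z).p_comp)
  let X' : Scheme.{u} := ∐ fun Z => (P Z).X'
  let c : ∀ Z : κ, (P Z).X' ⟶ X' := fun Z => Limits.Sigma.ι (fun Z => (P Z).X') Z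
  let π : X' ⟶ X := Limits.Sigma.desc fun Z => (P Z).π
  have hcπ : ∀ Z, c Z ≫ π = (P Z).π := fun Z => Sigma.ι_desc _ _
  haveI : IsProper π := hπ
  refine ⟨N, X', π, q, hq, hqf, hπ, ⟨fun x => ?_⟩, ⟨⨆ Z, U Z, ?_, ?_, ?_⟩, fun hX => ?_⟩
  · obtain ⟨w, hw⟩ := (P ⟨irreducibleComponent x, irreducibleComponent_mem_irreducibleComponents x⟩).range_π.ge
      ((hclo ⟨irreducibleComponent x, irreducibleComponent_mem_irreducibleComponents x⟩).ge mem_irreducibleComponent)
    exact ⟨c _ w, by rw [← Scheme.Hom.comp_apply, hcπ, hw]⟩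
  · intro x
    refine closure_mono ?_ ((hclo ⟨irreducibleComponent x, irreducibleComponent_mem_irreducibleComponents x⟩).ge
      mem_irreducibleComponent)
    exact fun y hy => Opens.mem_iSup.2 ⟨_, hy⟩
  · intro y
    obtain ⟨Z, w, rfl⟩ := ModPairLib.sigma_surj (fun Z => (P Z).X') y
    refine closure_mono ?_ (image_closure_subset_closure_image (c Z).continuous ⟨w, (P Z).dense w, rfl⟩)
    rintro _ ⟨v, hv, rfl⟩
    show π (c Z v) ∈ (⨆ Z, U Z : X.Opens)
    rw [← Scheme.Hom.comp_apply, hcπ]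
    exact Opens.mem_iSup.2 ⟨Z, hv⟩
  · -- over each `U Z` only the piece of `Z` is present
    have hiso : ∀ Z, IsIso (π ∣_ U Z) := by
      intro Z
      let u : ((P Z).π ⁻¹ᵁ U Z).toScheme ⟶ (π ⁻¹ᵁ U Z).toScheme :=
        IsOpenImmersion.lift (π ⁻¹ᵁ U Z).ι (((P Z).π ⁻¹ᵁ U Z).ι ≫ c Z) (by
          rintro _ ⟨v, rfl⟩
          rw [Scheme.Opens.range_ι]
          show π (c Z (((P Z).π ⁻¹ᵁ U Z).ι v)) ∈ U Z
          rw [← Scheme.Hom.comp_apply, hcπ]
          exact v.2)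
      have hu : u ≫ (π ⁻¹ᵁ U Z).ι = ((P Z).π ⁻¹ᵁ U Z).ι ≫ c Z := IsOpenImmersion.lift_fac _ _ _
      haveI : IsOpenImmersion (u ≫ (π ⁻¹ᵁ U Z).ι) := by rw [hu]; infer_instance
      haveI : IsOpenImmersion u := IsOpenImmersion.of_comp u (π ⁻¹ᵁ U Z).ι
      haveI : Surjective u := ⟨fun ⟨y, hy⟩ => by
        obtain ⟨Z', w, rfl⟩ := ModPairLib.sigma_surj (fun Z => (P Z).X') y
        have hw : (P Z').π w ∈ U Z := by
          rw [← hcπ Z', Scheme.Hom.comp_apply]
          exact hy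
        obtain rfl : Z' = Z := by
          by_contra hne
          exact Set.disjoint_left.1 (hUd Z Z' hne) hw ((hclo Z').le ((P Z').range_π.le ⟨w, rfl⟩))
        refine ⟨⟨w, hw⟩, (π ⁻¹ᵁ U Z').ι.isOpenEmbedding.injective ?_⟩
        rw [← Scheme.Hom.comp_apply, hu]
        rfl⟩
      haveI : Epi u.base := (TopCat.epi_iff_surjective _).2 u.surjective
      haveI : IsIso u := IsOpenImmersion.isIso u
      haveI := (P Z).isIso
      have e : π ∣_ U Z = inv u ≫ ((P Z).π ∣_ U Z) := by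
        rw [← cancel_mono (U Z).ι, Category.assoc, morphismRestrict_ι, morphismRestrict_ι, IsIso.eq_inv_comp,
          reassoc_of% hu, hcπ]
      rw [e]
      infer_instance
    refine (IsZariskiLocalAtTarget.iff_of_iSup_eq_top (P := MorphismProperty.isomorphisms Scheme)
      (fun Z => (⨆ Z, U Z : X.Opens).ι ⁻¹ᵁ U Z) ?_).2 fun Z => ?_
    · rw [← Scheme.Hom.preimage_iSup]
      exact Scheme.Opens.ι_preimage_self _
    · have hE : (⨆ Z, U Z : X.Opens).ι ''ᵁ ((⨆ Z, U Z : X.Opens).ι ⁻¹ᵁ U Z) = U Z := by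
        rw [Scheme.Hom.image_preimage_eq_opensRange_inf, Scheme.Opens.opensRange_ι]
        exact inf_eq_right.2 (le_iSup U Z)
      exact (MorphismProperty.arrow_mk_iso_iff (MorphismProperty.isomorphisms Scheme)
        (morphismRestrictRestrict π _ _ ≪≫ morphismRestrictEq π hE)).2 (hiso Z)
  · haveI := fun Z => (P Z).reduced hX
    haveI : ∀ i, IsReduced ((sigmaOpenCover fun Z => (P Z).X').X i) := fun i => (P i).reduced hX
    exact IsReduced.of_openCover _ (sigmaOpenCover fun Z => (P Z).X')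

end Groth.Agent.ChowGen
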