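import Groth.Agent.ChowGen.Product
import Groth.Agent.ExistEasy.ChowNR.Basic
import Mathlib.AlgebraicGeometry.ZariskisMainTheorem

/-!
# The modification attached to a family of immersions on opens containing a common open
-/

universe u

open CategoryTheory CategoryTheory.Limits AlgebraicGeometry

set_option backward.isDefEq.respectTransparency false
set_option backward.isDefEq.respectTransparency.types false
set_option linter.style.haveILetI false

noncomputable section

namespace Groth.Agent.ChowGen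

open Groth.Agent.ExistEasy.ChowNR (isSTDom_toImage isSTDom_restrict ext_of_isSTDom)

variable {X S : Scheme.{u}} (f : X ⟶ S) [IsSeparated f]

/-- Being an immersion can be checked on the preimages of opens of the target. -/
theorem isImmersion_of_preimage_cover {A B : Scheme.{u}} (p : A ⟶ B) {ι : Type*} (R : ι → B.Opens)
    (htop : ⨆ i, p ⁻¹ᵁ R i = ⊤) (h : ∀ i, IsImmersion ((p ⁻¹ᵁ R i).ι ≫ p)) : IsImmersion p := by
  let R₀ : B.Opens := ⨆ i, R i
  have htop' : p ⁻¹ᵁ R₀ = ⊤ := by rw [Scheme.Hom.preimage_iSup, htop]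
  haveI : IsImmersion (p ∣_ R₀) := by
    refine (IsZariskiLocalAtTarget.iff_of_iSup_eq_top (P := @IsImmersion)
      (fun i => R₀.ι ⁻¹ᵁ R i) ?_).2 fun i => ?_
    · rw [← Scheme.Hom.preimage_iSup]
      exact R₀.ι_preimage_self
    · haveI := h i
      haveI : IsImmersion (p ∣_ R i) := by
        haveI : IsImmersion ((p ∣_ R i) ≫ (R i).ι) := by rw [morphismRestrict_ι]; infer_instance
        exact IsImmersion.of_comp _ (R i).ι
      have hE : R₀.ι ''ᵁ (R₀.ι ⁻¹ᵁ R i) = R i := by
        rw [R₀.ι.image_preimage_eq_opensRange_inf, Scheme.Opens.opensRange_ι]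
        exact inf_eq_right.2 (le_iSup R i)
      exact (MorphismProperty.arrow_mk_iso_iff @IsImmersion
        (morphismRestrictRestrict p R₀ (R₀.ι ⁻¹ᵁ R i) ≪≫ morphismRestrictEq p hE)).2 ‹_›
  haveI : IsIso (p ⁻¹ᵁ R₀).ι := by rw [htop']; exact (A.topIso).isIso_hom
  have : p = inv (p ⁻¹ᵁ R₀).ι ≫ (p ∣_ R₀) ≫ R₀.ι := by rw [morphismRestrict_ι, IsIso.inv_hom_id_assoc]
  rw [this]
  infer_instance

/-- A proper modification of the closure of `U` which is quasi-projective over `S`. -/
structure Piece (U : X.Opens) where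
  n : ℕ
  X' : Scheme.{u}
  π : X' ⟶ X
  p : X' ⟶ CohB1.ProjSpaceOver n S
  p_imm : IsImmersion p
  π_proper : IsProper π
  p_comp : p ≫ CohB1.ProjSpaceOver.toBase n S = π ≫ f
  isIso : IsIso (π ∣_ U)
  range_π : Set.range π = closure (U : Set X)
  dense : Dense ((π ⁻¹ᵁ U : X'.Opens) : Set X')
  reduced : IsReduced X → IsReduced X'

theorem exists_piece {ι : Type*} [Finite ι] (U : X.Opens) (hUc : IsCompact (U : Set X))
    [QuasiSeparatedSpace X]
    (V : ι → X.Opens) (hle : ∀ i, U ≤ V i) (hcov : closure (U : Set X) ⊆ ⋃ i, (V i : Set X))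
    (n : ι → ℕ) (j : ∀ i, (V i).toScheme ⟶ CohB1.ProjSpaceOver (n i) S) (hj : ∀ i, IsImmersion (j i))
    (hjf : ∀ i, j i ≫ CohB1.ProjSpaceOver.toBase (n i) S = (V i).ι ≫ f) :
    Nonempty (Piece f U) := by
  haveI := hj
  obtain ⟨D⟩ := exists_prodData (S := S) n
  obtain ⟨g, hgq, hg⟩ := D.lift (U.ι ≫ f) (fun i => X.homOfLE (hle i) ≫ j i)
    (fun i => by rw [Category.assoc, hjf, Scheme.homOfLE_ι_assoc])
  haveI := D.isProper_q
  haveI : CompactSpace U.toScheme := isCompact_iff_compactSpace.1 hUc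
  haveI : QuasiCompact U.ι := quasiCompact_of_compactSpace _
  let gr : U.toScheme ⟶ pullback f D.q := pullback.lift U.ι g hgq.symm
  haveI : QuasiCompact gr := by
    haveI : QuasiCompact (gr ≫ pullback.fst f D.q) := by rw [pullback.lift_fst]; infer_instance
    exact QuasiCompact.of_comp gr (pullback.fst f D.q)
  let X' := gr.image
  let γ : U.toScheme ⟶ X' := gr.toImage
  haveI : IsSchemeTheoreticallyDominant γ := isSTDom_toImage gr
  haveI : QuasiCompact γ := inferInstanceAs (QuasiCompact gr.toImage)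
  let π : X' ⟶ X := gr.imageι ≫ pullback.fst f D.q
  let p : X' ⟶ D.P := gr.imageι ≫ pullback.snd f D.q
  have hγι : γ ≫ gr.imageι = gr := gr.toImage_imageι
  have hγπ : γ ≫ π = U.ι := by rw [reassoc_of% hγι, pullback.lift_fst]
  have hγp : γ ≫ p = g := by rw [reassoc_of% hγι, pullback.lift_snd]
  have hπf : π ≫ f = p ≫ D.q := by simp only [π, p, Category.assoc, pullback.condition]
  haveI : IsClosedImmersion gr.imageι := inferInstanceAs (IsClosedImmersion (Scheme.IdealSheafData.subschemeι _))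
  haveI : IsProper π := inferInstance
  -- range
  haveI : IsDominant γ := inferInstance
  have hrange : Set.range π = closure (U : Set X) := by
    refine Set.Subset.antisymm ?_ (closure_minimal ?_ π.isClosedMap.isClosed_range)
    · rintro _ ⟨x, rfl⟩
      have h := image_closure_subset_closure_image π.continuous (s := Set.range γ)
        ⟨x, (denseRange_iff_closure_range.1 γ.denseRange).symm ▸ trivial, rfl⟩
      refine closure_mono ?_ h
      rintro _ ⟨_, ⟨w, rfl⟩, rfl⟩
      rw [← Scheme.Hom.comp_apply, hγπ]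
      exact w.2
    · intro x hx
      refine ⟨γ ⟨x, hx⟩, ?_⟩
      rw [← Scheme.Hom.comp_apply, hγπ]
      rfl
  have hπ1 : π = gr.imageι ≫ pullback.fst f D.q := rfl
  have hp1 : p = gr.imageι ≫ pullback.snd f D.q := rfl
  clear_value π p
  -- the charts
  let R : ι → D.P.Opens := fun i => D.pr i ⁻¹ᵁ (j i).coborderRange
  have hR : ∀ i, p ⁻¹ᵁ R i = π ⁻¹ᵁ V i ∧ IsImmersion ((π ⁻¹ᵁ V i).ι ≫ p) := by
    intro i
    let tb := CohB1.ProjSpaceOver.toBase (n i) S
    haveI : IsProper tb := TwistFlat.isProper_toBase (n i)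
    let O : X'.Opens := π ⁻¹ᵁ V i
    -- on O the two maps to P^{n i} agree
    have h1 : (π ∣_ V i) ≫ j i = O.ι ≫ p ≫ D.pr i := by
      haveI := isSTDom_restrict γ O
      refine ext_of_isSTDom tb ?_ (γ ∣_ O) ?_
      · rw [Category.assoc, hjf, morphismRestrict_ι_assoc, Category.assoc, Category.assoc, D.pr_q, ← hπf]
      · have e1 : (γ ∣_ O) ≫ (π ∣_ V i) = (γ ⁻¹ᵁ O).ι ≫ X.homOfLE (hle i) := by
          rw [← cancel_mono (V i).ι, Category.assoc, Category.assoc, morphismRestrict_ι,
            morphismRestrict_ι_assoc, hγπ, Scheme.homOfLE_ι]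
        rw [reassoc_of% e1, morphismRestrict_ι_assoc, reassoc_of% hγp, hg i]
    -- the preimage O' of the open where `j i` is closed maps into V i
    let O' : X'.Opens := p ⁻¹ᵁ R i
    let W := (j i).coborderRange
    let b : O'.toScheme ⟶ W.toScheme := (p ≫ D.pr i) ∣_ W
    have hb : b ≫ W.ι = O'.ι ≫ p ≫ D.pr i := morphismRestrict_ι _ _
    haveI := isSTDom_restrict γ O'
    have e2 : (γ ∣_ O') ≫ b = ((γ ⁻¹ᵁ O').ι ≫ X.homOfLE (hle i)) ≫ (j i).liftCoborder := by
      rw [← cancel_mono W.ι, Category.assoc, hb, morphismRestrict_ι_assoc, reassoc_of% hγp, hg i,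
        Category.assoc, Category.assoc, Scheme.Hom.liftCoborder_ι]
    haveI hiso : IsIso (pullback.fst b (j i).liftCoborder) :=
      IsClosedImmersion.isIso_iff_ker_eq_bot.2 (le_bot_iff.1 (by
        refine le_trans (Scheme.Hom.le_ker_comp
          (pullback.lift (γ ∣_ O') ((γ ⁻¹ᵁ O').ι ≫ X.homOfLE (hle i)) e2) _) (le_of_eq ?_)
        rw [pullback.lift_fst]
        exact (γ ∣_ O').ker_eq_bot))
    let e : O'.toScheme ⟶ (V i).toScheme :=
      inv (pullback.fst b (j i).liftCoborder) ≫ pullback.snd b (j i).liftCoborder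
    have he : e ≫ j i = O'.ι ≫ p ≫ D.pr i := by
      rw [← Scheme.Hom.liftCoborder_ι (j i), Category.assoc, ← pullback.condition_assoc,
        IsIso.inv_hom_id_assoc, hb]
    have he2 : e ≫ (V i).ι = O'.ι ≫ π := by
      refine ext_of_isSTDom f ?_ (γ ∣_ O') ?_
      · rw [Category.assoc, ← hjf i, reassoc_of% he, D.pr_q, Category.assoc, hπf]
      · have e3 : (γ ∣_ O') ≫ e = (γ ⁻¹ᵁ O').ι ≫ X.homOfLE (hle i) := by
          rw [← cancel_mono (j i).liftCoborder, ← e2, Category.assoc, Category.assoc,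
            ← pullback.condition, IsIso.inv_hom_id_assoc]
        rw [reassoc_of% e3, Scheme.homOfLE_ι, morphismRestrict_ι_assoc, hγπ]
    have hO : p ⁻¹ᵁ R i = π ⁻¹ᵁ V i := by
      refine le_antisymm (fun x hx => ?_) (fun x hx => ?_)
      · show π x ∈ V i
        have := congr($he2 ⟨x, hx⟩)
        rw [Scheme.Hom.comp_apply, Scheme.Hom.comp_apply] at this
        exact this ▸ (e ⟨x, hx⟩).2
      · show D.pr i (p x) ∈ (j i).coborderRange
        have := congr($h1 ⟨x, hx⟩)
        simp only [Scheme.Hom.comp_apply] at this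
        exact this ▸ subset_coborder ⟨_, rfl⟩
    refine ⟨hO, ?_⟩
    let T := pullback (j i) (D.pr i)
    let t : O.toScheme ⟶ T := pullback.lift (π ∣_ V i) (O.ι ≫ p) (by rw [Category.assoc]; exact h1)
    let τ : T ⟶ pullback f D.q := pullback.lift (pullback.fst _ _ ≫ (V i).ι) (pullback.snd _ _) (by
      rw [Category.assoc, ← hjf i, pullback.condition_assoc, D.pr_q])
    have htτ : t ≫ τ = O.ι ≫ gr.imageι := by
      refine pullback.hom_ext ?_ ?_
      · simp only [t, τ, Category.assoc, pullback.lift_fst, pullback.lift_fst_assoc, morphismRestrict_ι, hπ1, O]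
      · simp only [t, τ, Category.assoc, pullback.lift_snd, hp1, O]
    haveI : IsImmersion (t ≫ τ) := by rw [htτ]; infer_instance
    haveI : IsImmersion t := IsImmersion.of_comp t τ
    have hsnd : O.ι ≫ p = t ≫ pullback.snd (j i) (D.pr i) := (pullback.lift_snd _ _ _).symm
    rw [hsnd]
    infer_instance
  -- p is an immersion
  have hp : IsImmersion p := by
    refine isImmersion_of_preimage_cover p R ?_ fun i => ?_
    · rw [eq_top_iff]
      intro x _
      obtain ⟨i, hi⟩ := Set.mem_iUnion.1 (hcov (hrange ▸ Set.mem_range_self x))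
      exact TopologicalSpace.Opens.mem_iSup.2 ⟨i, (hR i).1.ge hi⟩
    · rw [(hR i).1]
      exact (hR i).2
  haveI := D.hc
  -- π is an isomorphism over U
  have hiso : IsIso (π ∣_ U) := by
    let g₁ : U.toScheme ⟶ (π ⁻¹ᵁ U).toScheme := IsOpenImmersion.lift (π ⁻¹ᵁ U).ι γ (by
      rintro _ ⟨y, rfl⟩
      rw [Scheme.Opens.range_ι]
      show π (γ y) ∈ U
      rw [← Scheme.Hom.comp_apply, hγπ]
      exact y.2)
    have hg₁ : g₁ ≫ (π ⁻¹ᵁ U).ι = γ := IsOpenImmersion.lift_fac _ _ _
    refine ⟨g₁, ?_, ?_⟩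
    · haveI := isSTDom_restrict γ (π ⁻¹ᵁ U)
      rw [← cancel_mono (π ⁻¹ᵁ U).ι, Category.id_comp, Category.assoc, hg₁]
      refine ext_of_isSTDom π ?_ (γ ∣_ (π ⁻¹ᵁ U)) ?_
      · rw [Category.assoc, hγπ, morphismRestrict_ι]
      · have h2 : (γ ∣_ (π ⁻¹ᵁ U)) ≫ (π ∣_ U) = (γ ⁻¹ᵁ (π ⁻¹ᵁ U)).ι := by
          rw [← cancel_mono U.ι, Category.assoc, morphismRestrict_ι, morphismRestrict_ι_assoc, hγπ]
        rw [reassoc_of% h2, morphismRestrict_ι]
    · rw [← cancel_mono U.ι, Category.assoc, morphismRestrict_ι, reassoc_of% hg₁, hγπ, Category.id_comp]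
  refine ⟨{
    n := D.N
    X' := X'
    π := π
    p := p ≫ D.c
    p_imm := inferInstance
    π_proper := inferInstance
    p_comp := by rw [Category.assoc, D.c_q, hπf]
    isIso := hiso
    range_π := hrange
    dense := ?_
    reduced := fun _ => ?_ }⟩
  · refine Dense.mono ?_ γ.denseRange
    rintro _ ⟨w, rfl⟩
    show π (γ w) ∈ U
    rw [← Scheme.Hom.comp_apply, hγπ]
    exact w.2
  · haveI : ∀ V : X'.Opens, _root_.IsReduced Γ(X', V) := fun V =>
      isReduced_of_injective (γ.app V).hom (γ.app_injective V)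
    exact ⟨fun V => inferInstance⟩

end Groth.Agent.ChowGen
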