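import Groth.Agent.S1616
import Groth.Agent.TwistFlat.Base
import Groth.Agent.SegreX.Coord

/-!
# Finite products of projective spaces
-/

universe u

open CategoryTheory CategoryTheory.Limits AlgebraicGeometry

set_option backward.isDefEq.respectTransparency false
set_option backward.isDefEq.respectTransparency.types false
set_option linter.style.haveILetI false

noncomputable section

namespace Groth.Agent.ChowGen

variable (S : Scheme.{u})

/-- A finite product of projective spaces over `S`, with a closed immersion into a single one. -/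
structure ProdData {ι : Type*} (n : ι → ℕ) where
  P : Scheme.{u}
  q : P ⟶ S
  pr : ∀ i, P ⟶ CohB1.ProjSpaceOver (n i) S
  pr_q : ∀ i, pr i ≫ CohB1.ProjSpaceOver.toBase (n i) S = q
  lift : ∀ {T : Scheme.{u}} (t : T ⟶ S) (a : ∀ i, T ⟶ CohB1.ProjSpaceOver (n i) S),
    (∀ i, a i ≫ CohB1.ProjSpaceOver.toBase (n i) S = t) → ∃ g : T ⟶ P, g ≫ q = t ∧ ∀ i, g ≫ pr i = a i
  N : ℕ
  c : P ⟶ CohB1.ProjSpaceOver N S
  hc : IsClosedImmersion c
  c_q : c ≫ CohB1.ProjSpaceOver.toBase N S = q

variable {S}

theorem ProdData.isProper_q {ι : Type*} {n : ι → ℕ} (D : ProdData S n) : IsProper D.q := by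
  haveI := D.hc
  haveI := TwistFlat.isProper_toBase D.N (Y := S)
  rw [← D.c_q]
  infer_instance

theorem exists_prodData_fin : ∀ {m : ℕ} (n : Fin m → ℕ), Nonempty (ProdData S n)
  | 0, n => by
    haveI := TwistFlat.isProper_toBase 0 (Y := S)
    let z : S ⟶ CohB1.ProjSpaceOver 0 S :=
      pullback.lift (SegreX.ptS (fun _ => 1) 0 isUnit_one) (𝟙 S) (specULiftZIsTerminal.hom_ext _ _)
    have hz : z ≫ CohB1.ProjSpaceOver.toBase 0 S = 𝟙 S := pullback.lift_snd _ _ _
    refine ⟨{
      P := S
      q := 𝟙 S
      pr := fun i => i.elim0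
      pr_q := fun i => i.elim0
      lift := fun t a _ => ⟨t, Category.comp_id t, fun i => i.elim0⟩
      N := 0
      c := z
      hc := ?_
      c_q := hz }⟩
    haveI : IsClosedImmersion (z ≫ CohB1.ProjSpaceOver.toBase 0 S) := by rw [hz]; infer_instance
    exact IsClosedImmersion.of_comp z (CohB1.ProjSpaceOver.toBase 0 S)
  | m + 1, n => by
    obtain ⟨D⟩ := exists_prodData_fin (fun i : Fin m => n i.succ)
    obtain ⟨φ, hφ, hφq⟩ := S1616.result S (n 0) D.N
    haveI := D.hc
    let tb := CohB1.ProjSpaceOver.toBase (n 0) S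
    let tN := CohB1.ProjSpaceOver.toBase D.N S
    let mp : pullback tb D.q ⟶ pullback tb tN :=
      pullback.map tb D.q tb tN (𝟙 _) D.c (𝟙 S) (by simp) (by simp [D.c_q, tN])
    refine ⟨{
      P := pullback tb D.q
      q := pullback.snd tb D.q ≫ D.q
      pr := Fin.cases (motive := fun i => pullback tb D.q ⟶ CohB1.ProjSpaceOver (n i) S)
        (pullback.fst tb D.q) (fun i => pullback.snd tb D.q ≫ D.pr i)
      pr_q := Fin.cases (by simp only [Fin.cases_zero]; exact pullback.condition) (fun i => by simp [D.pr_q i])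
      lift := fun t a ha => ?_
      N := _
      c := mp ≫ φ
      hc := ?_
      c_q := ?_ }⟩
    · obtain ⟨g, hg, hga⟩ := D.lift t (fun i => a i.succ) (fun i => ha i.succ)
      refine ⟨pullback.lift (a 0) g ((ha 0).trans hg.symm), by simp [hg], Fin.cases ?_ fun i => ?_⟩
      · simp
      · simp [hga i]
    · have hm1 : mp ≫ pullback.fst tb tN = pullback.fst tb D.q := by simp [mp]
      have hm2 : mp ≫ pullback.snd tb tN = pullback.snd tb D.q ≫ D.c := by simp [mp]
      have h : IsPullback mp (pullback.snd tb D.q) (pullback.snd tb tN) D.c := by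
        refine IsPullback.of_right ?_ hm2 (IsPullback.of_hasPullback tb tN)
        rw [hm1, D.c_q]
        exact IsPullback.of_hasPullback tb D.q
      haveI : IsClosedImmersion mp := MorphismProperty.of_isPullback h.flip ‹IsClosedImmersion D.c›
      infer_instance
    · rw [Category.assoc, hφq, pullback.lift_fst_assoc, Category.comp_id]
      exact pullback.condition

theorem exists_prodData {ι : Type*} [Finite ι] (n : ι → ℕ) : Nonempty (ProdData S n) := by
  obtain ⟨m, ⟨e⟩⟩ := Finite.exists_equiv_fin ι
  obtain ⟨D⟩ := exists_prodData_fin (S := S) (fun k => n (e.symm k))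
  refine ⟨{
    P := D.P
    q := D.q
    pr := fun i => D.pr (e i) ≫ eqToHom (by rw [e.symm_apply_apply])
    pr_q := fun i => ?_
    lift := fun t a ha => ?_
    N := D.N
    c := D.c
    hc := D.hc
    c_q := D.c_q }⟩
  · have : ∀ k l (h : k = l), eqToHom (congrArg (fun j => CohB1.ProjSpaceOver j S) h) ≫ CohB1.ProjSpaceOver.toBase l S =
        CohB1.ProjSpaceOver.toBase k S := by
      rintro k l rfl; simp
    rw [Category.assoc, this _ _ (congrArg n (e.symm_apply_apply i))]
    exact D.pr_q (e i)
  · obtain ⟨g, hg, hga⟩ := D.lift t (fun k => a (e.symm k)) (fun k => ha _)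
    refine ⟨g, hg, fun i => ?_⟩
    have : ∀ k l (h : k = l), a k ≫ eqToHom (congrArg (fun j => CohB1.ProjSpaceOver (n j) S) h) = a l := by
      rintro k l rfl; simp
    rw [← Category.assoc, hga (e i)]
    exact this _ _ (e.symm_apply_apply i)

end Groth.Agent.ChowGen
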