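import Groth.Agent.ChowGen.Assemble
import Groth.Agent.HProj.ProjChart
import Groth.Agent.AmpleX.Comp
import Groth.Agent.TwistFlat.Base
import Mathlib.AlgebraicGeometry.ZariskisMainTheorem

/-!
# Chow's lemma with a projective modification
-/

universe u

open CategoryTheory CategoryTheory.Limits AlgebraicGeometry TopologicalSpace

set_option backward.isDefEq.respectTransparency false
set_option backward.isDefEq.respectTransparency.types false
set_option linter.style.haveILetI false

noncomputable section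

namespace Groth.Agent.ChowGen

variable {X S : Scheme.{u}} (f : X ⟶ S)

theorem isQuasiProjective_of_immersion {X' : Scheme.{u}} (g : X' ⟶ S) [LocallyOfFiniteType g] [QuasiCompact g] {n : ℕ}
    (i : X' ⟶ CohB1.ProjSpaceOver n S) [IsImmersion i] (h : i ≫ CohB1.ProjSpaceOver.toBase n S = g) :
    RelProj.IsQuasiProjective g := by
  subst h
  haveI := TwistFlat.isProper_toBase n (Y := S)
  haveI : QuasiCompact i := QuasiCompact.of_comp i (CohB1.ProjSpaceOver.toBase n S)
  exact ⟨inferInstance, inferInstance, _, AmpleX.isRelAmple_pullback_embedding _ i i.isEmbedding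
    (TwistFlat.isRelAmple_twistOver n)⟩

theorem isProjective_of_proper_of_immersion {X' : Scheme.{u}} (π : X' ⟶ X) [IsProper π] {n : ℕ}
    (p : X' ⟶ CohB1.ProjSpaceOver n S) [IsImmersion p] (h : p ≫ CohB1.ProjSpaceOver.toBase n S = π ≫ f) :
    RelProj.IsProjective π := by
  haveI := TwistFlat.isProper_toBase n (Y := X)
  let c : X' ⟶ CohB1.ProjSpaceOver n X :=
    pullback.lift (p ≫ pullback.fst _ _) π (specULiftZIsTerminal.hom_ext _ _)
  have hc : c ≫ CohB1.ProjSpaceOver.toBase n X = π := pullback.lift_snd _ _ _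
  let m : CohB1.ProjSpaceOver n X ⟶ CohB1.ProjSpaceOver n S :=
    pullback.lift (pullback.fst _ _) (pullback.snd _ _ ≫ f) (specULiftZIsTerminal.hom_ext _ _)
  have hcm : c ≫ m = p := by
    refine pullback.hom_ext ?_ ?_
    · rw [Category.assoc, pullback.lift_fst, pullback.lift_fst]
    · rw [Category.assoc, pullback.lift_snd]
      refine Eq.trans ?_ h.symm
      rw [← Category.assoc]
      exact congrArg (· ≫ f) hc
  haveI : Mono (c ≫ m) := by rw [hcm]; infer_instance
  haveI : Mono c := mono_of_mono c m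
  haveI : IsProper (c ≫ CohB1.ProjSpaceOver.toBase n X) := by rw [hc]; infer_instance
  haveI : IsClosedImmersion c := (IsClosedImmersion.iff_isProper_and_mono _).2
    ⟨IsProper.of_comp c (CohB1.ProjSpaceOver.toBase n X), inferInstance⟩
  exact HProj.isProjective_of_isHProjective ⟨n, c, inferInstance, hc⟩

/-- A scheme containing a dense copy of a dense open of an irreducible scheme is irreducible. -/
theorem irreducibleSpace_of_dense {X' : Scheme.{u}} (π : X' ⟶ X) {U : X.Opens} (hU : Dense (U : Set X))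
    (hU' : Dense ((π ⁻¹ᵁ U : X'.Opens) : Set X')) (hi : IsIso (π ∣_ U)) (hX : IrreducibleSpace X) :
    IrreducibleSpace X' := by
  haveI := hX
  haveI := hi
  haveI : Nonempty X := IrreducibleSpace.toNonempty
  have hne : (U : Set X).Nonempty := hU.nonempty
  have hirrU : IsIrreducible ((π ⁻¹ᵁ U : X'.Opens) : Set X') := by
    haveI : Nonempty U.toScheme := hne.to_subtype
    haveI : PreirreducibleSpace U.toScheme := U.ι.isOpenEmbedding.preirreducibleSpace
    haveI : IrreducibleSpace U.toScheme := ⟨inferInstance⟩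
    have h := (IrreducibleSpace.isIrreducible_univ U.toScheme).image (inv (π ∣_ U))
      (inv (π ∣_ U)).continuous.continuousOn
    rw [Set.image_univ, Set.range_eq_univ.2 (Scheme.Hom.surjective (inv (π ∣_ U)))] at h
    have h' := h.image (π ⁻¹ᵁ U).ι (π ⁻¹ᵁ U).ι.continuous.continuousOn
    rwa [Set.image_univ, Scheme.Opens.range_ι] at h'
  have h2 := hirrU.closure
  rw [hU'.closure_eq] at h2
  exact (irreducibleSpace_def X').2 h2

variable [IsSeparated f]

theorem exists_chow_projective [CompactSpace S] [QuasiSeparatedSpace S] [LocallyOfFiniteType f] [QuasiCompact f]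
    (hirr : (irreducibleComponents X).Finite) :
    ∃ (X' : Scheme.{u}) (π : X' ⟶ X),
      RelProj.IsQuasiProjective (π ≫ f) ∧ RelProj.IsProjective π ∧ Surjective π ∧
      (∃ U : X.Opens, Dense ((π ⁻¹ᵁ U : X'.Opens) : Set X') ∧ IsIso (π ∣_ U)) ∧
      (IsReduced X → IsReduced X') ∧ (IrreducibleSpace X → IrreducibleSpace X') := by
  obtain ⟨n, X', π, j, hj, hjf, hπ, hs, ⟨U, hU, hU', hi⟩, hred⟩ := exists_chow_dense f hirr
  haveI := hπ
  haveI := hj
  refine ⟨X', π, isQuasiProjective_of_immersion (π ≫ f) j hjf, isProjective_of_proper_of_immersion f π j hjf, hs,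
    ⟨U, hU', hi⟩, hred, fun hX => ?_⟩
  exact irreducibleSpace_of_dense π hU hU' hi hX

theorem exists_chow_open [CompactSpace S] [QuasiSeparatedSpace S] [LocallyOfFiniteType f] [QuasiCompact f] [Nonempty X] :
    ∃ (X' : Scheme.{u}) (π : X' ⟶ X), RelProj.IsProjective π ∧ RelProj.IsQuasiProjective (π ≫ f) ∧
      ∃ U : X.Opens, (U : Set X).Nonempty ∧ IsIso (π ∣_ U) := by
  classical
  haveI : CompactSpace X := QuasiCompact.compactSpace_of_compactSpace f
  haveI : QuasiSeparatedSpace X := quasiSeparatedSpace_of_quasiSeparated f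
  obtain ⟨C⟩ := exists_charts f
  haveI := C.fin
  -- a maximal family of charts with a common point
  obtain ⟨T, ⟨x, hx⟩, hmax⟩ := (Set.toFinite {T : Set C.ι | ∃ x, ∀ i ∈ T, x ∈ C.V i}).exists_maximal
    ⟨∅, Classical.arbitrary X, fun i hi => hi.elim⟩
  let U : X.Opens := ⨅ i : T, C.V i
  have hxU : x ∈ U := by
    show x ∈ ((⨅ i : T, C.V i : X.Opens) : Set X)
    rw [Opens.coe_iInf]
    exact Set.mem_iInter.2 fun i => hx i.1 i.2
  have hclo : closure (U : Set X) ⊆ ⋃ i : T, (C.V i : Set X) := by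
    intro y hy
    obtain ⟨l, hl⟩ := C.cover y
    refine Set.mem_iUnion.2 ⟨⟨l, ?_⟩, hl⟩
    obtain ⟨z, hzl, hzU⟩ := mem_closure_iff.1 hy _ (C.V l).2 hl
    have hzT : insert l T ∈ {T : Set C.ι | ∃ x, ∀ i ∈ T, x ∈ C.V i} := by
      refine ⟨z, fun i hi => ?_⟩
      rcases hi with rfl | hi
      · exact hzl
      · exact (iInf_le (fun i : T => C.V i) ⟨i, hi⟩) hzU
    exact hmax hzT (Set.subset_insert _ _) (Set.mem_insert l T)
  have hUc : IsCompact (U : Set X) := by
    show IsCompact ((⨅ i : T, C.V i : X.Opens) : Set X)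
    rw [Opens.coe_iInf, ← Set.sInter_range]
    refine QuasiSeparatedSpace.isCompact_sInter (Set.finite_range _) ?_ ?_
    · rintro _ ⟨i, rfl⟩; exact Or.inl (C.V i).2
    · rintro _ ⟨i, rfl⟩; exact (C.affine i).isCompact
  obtain ⟨P⟩ := exists_piece f U hUc (fun i : T => C.V i) (fun i => iInf_le _ i) hclo
    (fun i => C.n i) (fun i => C.j i) (fun i => C.hj i) (fun i => C.hjf i)
  haveI := P.π_proper
  haveI := P.p_imm
  exact ⟨P.X', P.π, isProjective_of_proper_of_immersion f P.π P.p P.p_comp,
    isQuasiProjective_of_immersion (P.π ≫ f) P.p P.p_comp, U, ⟨x, hxU⟩, P.isIso⟩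

end Groth.Agent.ChowGen
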