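import Groth.Agent.ChowGen.Core
import Groth.Agent.ModPairLib.CoprodAdm
import Groth.Agent.SGA1Q.SigmaFinite

/-!
# A finite disjoint union of quasi-projective schemes is quasi-projective
-/

universe u

open CategoryTheory CategoryTheory.Limits AlgebraicGeometry MvPolynomial

set_option backward.isDefEq.respectTransparency false
set_option backward.isDefEq.respectTransparency.types false
set_option linter.style.haveILetI false

noncomputable section

namespace Groth.Agent.ChowGen

variable {X S : Scheme.{u}}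

/-- The section of `P^n_S` given by the `k`-th standard basis vector. -/
def unitSect (S : Scheme.{u}) {n : ℕ} (k : Fin (n + 1)) : S ⟶ CohB1.ProjSpaceOver n S :=
  pullback.lift (SegreX.ptS (fun l => if l = k then 1 else 0) k (by simp)) (𝟙 S) (specULiftZIsTerminal.hom_ext _ _)

theorem unitSect_toBase (S : Scheme.{u}) {n : ℕ} (k : Fin (n + 1)) :
    unitSect S k ≫ CohB1.ProjSpaceOver.toBase n S = 𝟙 S :=
  pullback.lift_snd _ _ _

/-- The standard chart of `P^n_S`. -/
def stdOpen (S : Scheme.{u}) {n : ℕ} (l : Fin (n + 1)) : (CohB1.ProjSpaceOver n S).Opens :=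
  pullback.fst (CohB1.ProjSpace.toSpec n (ULift.{u} ℤ)) (specULiftZIsTerminal.from S) ⁻¹ᵁ
    Proj.basicOpen (CohB1.polyGrading n (ULift.{u} ℤ)) (MvPolynomial.X l)

theorem unitSect_preimage (S : Scheme.{u}) {n : ℕ} (k l : Fin (n + 1)) :
    unitSect S k ⁻¹ᵁ stdOpen S l = if l = k then ⊤ else ⊥ := by
  rw [stdOpen, ← Scheme.Hom.comp_preimage, unitSect, pullback.lift_fst, SegreX.ptS_preimage]
  split_ifs with h
  · exact S.basicOpen_of_isUnit isUnit_one
  · exact S.basicOpen_zero ⊤

theorem exists_sum (f : X ⟶ S) {κ : Type u} [Finite κ] (n : κ → ℕ) (Y : κ → Scheme.{u}) (π : ∀ k, Y k ⟶ X)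
    (hπ : ∀ k, IsProper (π k)) (p : ∀ k, Y k ⟶ CohB1.ProjSpaceOver (n k) S) (hp : ∀ k, IsImmersion (p k))
    (hpf : ∀ k, p k ≫ CohB1.ProjSpaceOver.toBase (n k) S = π k ≫ f) :
    ∃ (N : ℕ) (q : ∐ Y ⟶ CohB1.ProjSpaceOver N S), IsImmersion q ∧
      q ≫ CohB1.ProjSpaceOver.toBase N S = Limits.Sigma.desc π ≫ f ∧ IsProper (Limits.Sigma.desc π) := by
  classical
  haveI := hp
  haveI := hπ
  obtain ⟨m, ⟨e⟩⟩ := Finite.exists_equiv_fin κ
  let n' : Option κ → ℕ := fun o => o.elim m n
  obtain ⟨D⟩ := exists_prodData (S := S) n'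
  haveI := D.hc
  let a : ∀ k o, Y k ⟶ CohB1.ProjSpaceOver (n' o) S := fun k o => match o with
    | none => π k ≫ f ≫ unitSect S (e k).castSucc
    | some l => if h : k = l then h ▸ p k else π k ≫ f ≫ unitSect S 0
  have ha : ∀ k o, a k o ≫ CohB1.ProjSpaceOver.toBase (n' o) S = π k ≫ f := by
    intro k o
    match o with
    | none => simp [a, n', unitSect_toBase]
    | some l =>
      by_cases h : k = l
      · subst h; simpa [a, n'] using hpf k
      · simp [a, n', h, unitSect_toBase]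
  choose g hgq hg using fun k => D.lift (π k ≫ f) (a k) (ha k)
  let O : κ → D.P.Opens := fun k => D.pr none ⁻¹ᵁ stdOpen S (e k).castSucc
  have hO : ∀ k l, g l ⁻¹ᵁ O k = if k = l then ⊤ else ⊥ := by
    intro k l
    simp only [O, ← Scheme.Hom.comp_preimage, hg l none, a]
    rw [Scheme.Hom.comp_preimage, Scheme.Hom.comp_preimage, unitSect_preimage]
    by_cases h : k = l
    · subst h; simp
    · rw [if_neg (fun h' => h (e.injective (Fin.castSucc_injective _ h'))), if_neg h]
      simp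
  let G : ∐ Y ⟶ D.P := Limits.Sigma.desc g
  have hG : ∀ k, G ⁻¹ᵁ O k = (Limits.Sigma.ι Y k).opensRange := by
    intro k
    ext z
    obtain ⟨l, w, rfl⟩ := ModPairLib.sigma_surj Y z
    have e0 : (Limits.Sigma.ι Y l) w ∈ G ⁻¹ᵁ O k ↔ w ∈ g l ⁻¹ᵁ O k := by
      show G ((Limits.Sigma.ι Y l) w) ∈ O k ↔ g l w ∈ O k
      rw [← Scheme.Hom.comp_apply, Sigma.ι_desc]
    show _ ∈ G ⁻¹ᵁ O k ↔ _
    rw [e0, hO]
    by_cases h : k = l
    · subst h
      rw [if_pos rfl]
      exact iff_of_true trivial ⟨w, rfl⟩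
    · rw [if_neg h]
      refine iff_of_false (fun h' => h') (fun h' => ?_)
      exact Set.disjoint_left.1 (TopologicalSpace.Opens.coe_disjoint.2 (disjoint_opensRange_sigmaι Y k l h)) h' ⟨w, rfl⟩
  haveI hgi : ∀ k, IsImmersion (g k) := fun k => by
    haveI : IsImmersion (g k ≫ D.pr (some k)) := by
      rw [hg k (some k)]
      simpa [a, n'] using hp k
    exact IsImmersion.of_comp _ (D.pr (some k))
  haveI : IsImmersion G := by
    refine isImmersion_of_preimage_cover G O ?_ fun k => ?_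
    · rw [eq_top_iff]
      intro z _
      obtain ⟨l, w, rfl⟩ := ModPairLib.sigma_surj Y z
      exact TopologicalSpace.Opens.mem_iSup.2 ⟨l, (hG l).ge ⟨w, rfl⟩⟩
    · rw [hG k]
      have : (Limits.Sigma.ι Y k).opensRange.ι ≫ G = (Limits.Sigma.ι Y k).isoOpensRange.inv ≫ g k := by
        rw [← Scheme.Hom.isoOpensRange_inv_comp (Limits.Sigma.ι Y k), Category.assoc, Sigma.ι_desc]
      rw [this]
      infer_instance
  refine ⟨D.N, G ≫ D.c, inferInstance, ?_, ?_⟩
  · rw [Category.assoc, D.c_q]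
    refine Limits.Sigma.hom_ext _ _ fun k => ?_
    rw [Sigma.ι_desc_assoc, Sigma.ι_desc_assoc, hgq]
  · have e' : Limits.Sigma.desc π = Limits.Sigma.map π ≫ Limits.Sigma.desc fun _ : κ => 𝟙 X :=
      Limits.Sigma.hom_ext _ _ fun k => by simp
    haveI := SGA1Q.isFinite_sigmaDesc (fun _ : κ => 𝟙 X) fun _ => inferInstance
    haveI := ModPairLib.isProper_sigmaMap π
    rw [e']
    infer_instance

end Groth.Agent.ChowGen
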